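import Mathlib
import Cfsg.Agent.H45.CosetSound

/-!
`SL(5,2)` in bit masks: a matrix is five rows of five bits, packed.
-/

set_option autoImplicit false
set_option linter.style.haveILetI false

namespace Cfsg.Agent.H95.Held

open Matrix

/-- a bit as an element of the field -/
def zb (b : Bool) : ZMod 2 := if b then 1 else 0

/-- the matrix of a packed number -/
def mat (m : ℕ) : Matrix (Fin 5) (Fin 5) (ZMod 2) := fun i j => zb (m.testBit (5 * i.1 + j.1))

/-- the vector of a number -/
def vec (v : ℕ) : Fin 5 → ZMod 2 := fun i => zb (v.testBit i.1)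

/-- a bit of a product of matrices -/
def pbit (a b i k : ℕ) : Bool :=
  (a.testBit (5 * i) && b.testBit k) ^^ (a.testBit (5 * i + 1) && b.testBit (5 + k)) ^^
    (a.testBit (5 * i + 2) && b.testBit (10 + k)) ^^ (a.testBit (5 * i + 3) && b.testBit (15 + k)) ^^
    (a.testBit (5 * i + 4) && b.testBit (20 + k))

/-- pack `n` bits -/
def pack (f : ℕ → Bool) : ℕ → ℕ
  | 0 => 0
  | n + 1 => (if f n then 1 <<< n else 0) ||| pack f n

theorem testBit_pack (f : ℕ → Bool) : ∀ n i, (pack f n).testBit i = (decide (i < n) && f i) := by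
  intro n
  induction n with
  | zero => intro i; simp [pack]
  | succ n ih =>
    intro i
    rw [pack, Nat.testBit_or, ih]
    rcases lt_trichotomy i n with h | rfl | h
    · have : (if f n then 1 <<< n else 0 : ℕ).testBit i = false := by
        split <;> simp [Nat.one_shiftLeft, h.ne']
      simp [this, h, Nat.lt_succ_of_lt h]
    · cases hf : f i <;> simp [Nat.one_shiftLeft]
    · have : (if f n then 1 <<< n else 0 : ℕ).testBit i = false := by
        split <;> simp [Nat.one_shiftLeft, h.ne]
      simp [this, Nat.not_lt.2 h.le, show ¬ i < n + 1 by omega]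

/-- the product -/
def mulB (a b : ℕ) : ℕ := pack (fun n => pbit a b (n / 5) (n % 5)) 25

/-- the image of a vector -/
def actB (m v : ℕ) : ℕ := pack (fun i =>
  (m.testBit (5 * i) && v.testBit 0) ^^ (m.testBit (5 * i + 1) && v.testBit 1) ^^
    (m.testBit (5 * i + 2) && v.testBit 2) ^^ (m.testBit (5 * i + 3) && v.testBit 3) ^^
    (m.testBit (5 * i + 4) && v.testBit 4)) 5

theorem zb_sum (a b c d e a' b' c' d' e' : Bool) :
    zb a * zb a' + zb b * zb b' + zb c * zb c' + zb d * zb d' + zb e * zb e' =
      zb ((a && a') ^^ (b && b') ^^ (c && c') ^^ (d && d') ^^ (e && e')) := by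
  revert a b c d e a' b' c' d' e'
  decide +kernel

theorem mat_mulB (a b : ℕ) : mat (mulB a b) = mat a * mat b := by
  ext i k
  rw [Matrix.mul_apply, Fin.sum_univ_five]
  simp only [mat, mulB, testBit_pack, pbit]
  rw [show decide (5 * i.1 + k.1 < 25) = true from decide_eq_true (by omega),
    show (5 * i.1 + k.1) / 5 = i.1 by omega, show (5 * i.1 + k.1) % 5 = k.1 by omega, Bool.true_and,
    ← zb_sum]
  norm_num

theorem vec_actB (m v : ℕ) : vec (actB m v) = mat m *ᵥ vec v := by
  ext i
  simp only [Matrix.mulVec, dotProduct, Fin.sum_univ_five, vec, mat, actB, testBit_pack]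
  rw [show decide (i.1 < 5) = true from decide_eq_true i.2, Bool.true_and, ← zb_sum]
  norm_num

/-- the identity -/
def idB : ℕ := 1 ||| 64 ||| 4096 ||| 262144 ||| 16777216

theorem mat_idB : mat idB = 1 := by decide +kernel

theorem det_eq_one {m : ℕ} (h : mulB m m = idB) : (mat m).det = 1 := by
  have h1 : (mat m).det * (mat m).det = 1 := by rw [← det_mul, ← mat_mulB, h, mat_idB, det_one]
  revert h1
  generalize (mat m).det = d
  revert d; decide

abbrev SL5 : Type := Matrix.SpecialLinearGroup (Fin 5) (ZMod 2)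

/-- an involution of `SL(5,2)`, or one -/
def invol (m : ℕ) : SL5 :=
  if h : mulB m m = idB then ⟨mat m, det_eq_one h⟩ else 1

theorem invol_val {m : ℕ} (h : mulB m m = idB) : (invol m).1 = mat m := by
  simp [invol, h]

theorem invol_one {m : ℕ} (h : ¬ mulB m m = idB) : invol m = 1 := by
  simp [invol, h]

/-- the product of a word in involutions -/
def prodB (ms : List ℕ) : ℕ := ms.foldr mulB idB

theorem coe_prod_invol : ∀ ms : List ℕ, (∀ m ∈ ms, mulB m m = idB) →
    (((ms.map invol).prod : SL5) : Matrix (Fin 5) (Fin 5) (ZMod 2)) = mat (prodB ms) := by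
  intro ms
  induction ms with
  | nil => intro _; rw [prodB, List.foldr_nil, mat_idB]; rfl
  | cons m ms ih =>
    intro h
    rw [List.map_cons, List.prod_cons]
    show (invol m).1 * (((ms.map invol).prod : SL5) : Matrix (Fin 5) (Fin 5) (ZMod 2)) = _
    rw [ih fun x hx => h x (List.mem_cons_of_mem _ hx), invol_val (h m (by simp))]
    exact (mat_mulB m (prodB ms)).symm

theorem invol_inv {m : ℕ} : (invol m)⁻¹ = invol m := by
  refine inv_eq_of_mul_eq_one_right ?_
  by_cases h : mulB m m = idB
  · exact Subtype.ext (show (invol m).1 * (invol m).1 = 1 by rw [invol_val h, ← mat_mulB, h, mat_idB])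
  · rw [invol_one h, one_mul]

end Cfsg.Agent.H95.Held
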