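import Cfsg.Agent.H45.CosetSound

/-!
Identification of a group with a finite simple group from a closed coset table of a graph.
-/

set_option autoImplicit false
set_option linter.style.haveILetI false

namespace Cfsg.Agent.H95.Held

open Cfsg.Agent.H45 Subgroup

universe u v

section Bound

variable {P : Type u} [Group P]

/-- a closed table bounds the group generated by the letters -/
theorem card_closure_le {D : Dat} {e : ℕ → P} {H : Subgroup P} [Finite ↥H] {n : ℕ} {tree : List ℕ}
    {bs : List Blk} (hD : Hyp D e H) (hc : closeCheck D n tree bs = true) (hn : 0 < n)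
    (hlt : ∀ i, i < n → ∀ l, l < D.L → tget D.cols i l < n)
    (hiv : ∀ l, l < D.L → linv D.iv l < D.L) :
    Finite ↥(closure {g | ∃ l, l < D.L ∧ e l = g}) ∧
      Nat.card ↥(closure {g | ∃ l, l < D.L ∧ e l = g}) ≤ n * Nat.card ↥H := by
  obtain ⟨-, w, hw0, -, hw⟩ := closeCheck_sound hD (E := ⊤) (fun _ _ => mem_top _) hc
  set T : Set P := Set.range fun q : Fin n × ↥H => (q.2 : P) * w q.1 with hT
  have step : ∀ x ∈ T, ∀ l, l < D.L → x * e l ∈ T := by
    rintro _ ⟨⟨i, h⟩, rfl⟩ l hl
    refine ⟨⟨⟨_, hlt i i.2 l hl⟩, h * ⟨_, hw i i.2 l hl⟩⟩, ?_⟩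
    simp only [Subgroup.coe_mul]
    group
  have sub : ∀ g ∈ closure {g | ∃ l, l < D.L ∧ e l = g}, g ∈ T := by
    intro g hg
    have key : ∀ x ∈ T, x * g ∈ T ∧ x * g⁻¹ ∈ T := by
      induction hg using Subgroup.closure_induction with
      | mem y hy =>
        obtain ⟨l, hl, rfl⟩ := hy
        intro x hx
        exact ⟨step x hx l hl, hD.invl l ▸ step x hx _ (hiv l hl)⟩
      | one => intro x hx; simpa using hx
      | mul y z _ _ hy hz =>
        intro x hx
        rw [← mul_assoc, mul_inv_rev, ← mul_assoc]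
        exact ⟨(hz _ (hy x hx).1).1, (hy _ (hz x hx).2).2⟩
      | inv y _ hy => intro x hx; rw [inv_inv]; exact ⟨(hy x hx).2, (hy x hx).1⟩
    simpa using (key 1 ⟨⟨⟨0, hn⟩, 1⟩, by simp [hw0]⟩).1
  have hfin : T.Finite := Set.finite_range _
  haveI : Finite ↥T := hfin.to_subtype
  refine ⟨Finite.of_injective (fun g => (⟨g.1, sub g.1 g.2⟩ : ↥T)) fun a b h => ?_, ?_⟩
  · exact Subtype.ext (congrArg (fun t : ↥T => (t : P)) h)
  · calc Nat.card ↥(closure {g | ∃ l, l < D.L ∧ e l = g})
        ≤ Nat.card ↥T := Nat.card_le_card_of_injective (fun g => (⟨g.1, sub g.1 g.2⟩ : ↥T))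
          fun a b h => Subtype.ext (congrArg (fun t : ↥T => (t : P)) h)
      _ ≤ Nat.card (Fin n × ↥H) := Finite.card_range_le _
      _ = n * Nat.card ↥H := by rw [Nat.card_prod, Nat.card_fin]

end Bound

section Orbit

variable {S X : Type*} [Group S] [Finite S] [MulAction S X]

/-- enough points in the orbit bound a subgroup of the stabiliser -/
theorem card_mul_le {B : Subgroup S} {x : X} {n : ℕ} (pts : Fin n → X) (hinj : Function.Injective pts)
    (horb : ∀ i, pts i ∈ MulAction.orbit S x) (hB : B ≤ MulAction.stabilizer S x) :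
    n * Nat.card ↥B ≤ Nat.card S := by
  classical
  rw [← Subgroup.card_mul_index (MulAction.stabilizer S x), MulAction.index_stabilizer, mul_comm]
  refine Nat.mul_le_mul (Subgroup.card_le_of_le hB) ?_
  haveI : Finite (MulAction.orbit S x) := Finite.of_surjective
    (fun s : S => (⟨s • x, s, rfl⟩ : MulAction.orbit S x)) fun ⟨_, s, hs⟩ => ⟨s, Subtype.ext hs⟩
  rw [← Nat.card_coe_set_eq]
  calc n = Nat.card (Fin n) := (Nat.card_fin n).symm
    _ ≤ _ := Nat.card_le_card_of_injective (fun i => (⟨pts i, horb i⟩ : MulAction.orbit S x))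
      fun i j h => hinj (congrArg Subtype.val h)

end Orbit

/-- **Identification.** Letters in `G` and in a finite simple group `S` satisfying the relators of a
closed table, with a homomorphism on the subgroup of the table in `S`. -/
theorem iso_of_cert {G : Type u} [Group G] {S : Type v} [Group S] [Finite S] [IsSimpleGroup S]
    {D : Dat} {n : ℕ} {tree : List ℕ} {bs : List Blk} (hc : closeCheck D n tree bs = true) (hn : 0 < n)
    (hlt : ∀ i, i < n → ∀ l, l < D.L → tget D.cols i l < n)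
    (hiv : ∀ l, l < D.L → linv D.iv l < D.L) (sub : List ℕ) (hsub : D.S = sub.map fun l => [l])
    (a : ℕ → G) (b : ℕ → S)
    (hai : ∀ l, a (linv D.iv l) = (a l)⁻¹) (hbi : ∀ l, b (linv D.iv l) = (b l)⁻¹)
    (har : ∀ w ∈ D.R, evalW a w = 1) (hbr : ∀ w ∈ D.R, evalW b w = 1)
    (hB : n * Nat.card ↥(closure {s | ∃ l ∈ sub, b l = s}) ≤ Nat.card S)
    (hgenS : closure {s | ∃ l, l < D.L ∧ b l = s} = ⊤)
    (hgenG : closure {g | ∃ l, l < D.L ∧ a l = g} = ⊤)
    (f : ↥(closure {s | ∃ l ∈ sub, b l = s}) →* G)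
    (hf : ∀ l (hl : l ∈ sub), f ⟨b l, subset_closure ⟨l, hl, rfl⟩⟩ = a l)
    (hne : ∃ g : G, g ≠ 1) : Nonempty (G ≃* S) := by
  classical
  let B := closure {s | ∃ l ∈ sub, b l = s}
  let e : ℕ → G × S := fun l => (a l, b l)
  let H : Subgroup (G × S) := (f.prod B.subtype).range
  haveI : Finite ↥H := Finite.of_surjective _ (f.prod B.subtype).rangeRestrict_surjective
  have hHc : Nat.card ↥H ≤ Nat.card ↥B :=
    Nat.card_le_card_of_surjective _ (f.prod B.subtype).rangeRestrict_surjective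
  have hev : ∀ w, evalW e w = (evalW a w, evalW b w) := by
    intro w
    induction w with
    | nil => rfl
    | cons x w ih => rw [evalW_cons, evalW_cons, evalW_cons, ih]; rfl
  have hD : Hyp D e H := by
    refine ⟨fun l => Prod.ext (hai l) (hbi l), fun w hw => ?_, fun w hw => ?_⟩
    · rw [hev, har w hw, hbr w hw]; rfl
    · rw [hsub, List.mem_map] at hw
      obtain ⟨l, hl, rfl⟩ := hw
      refine ⟨⟨b l, subset_closure ⟨l, hl, rfl⟩⟩, ?_⟩
      rw [hev]
      simp [evalW]
      exact hf l hl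
  obtain ⟨hfin, hcard⟩ := card_closure_le hD hc hn hlt hiv
  set K := closure {g : G × S | ∃ l, l < D.L ∧ e l = g}
  have hKcard : Nat.card ↥K ≤ Nat.card S := hcard.trans ((Nat.mul_le_mul_left n hHc).trans hB)
  let π : ↥K →* S := (MonoidHom.snd G S).comp K.subtype
  have hπ : Function.Surjective π := by
    rw [← MonoidHom.range_eq_top, eq_top_iff, ← hgenS, closure_le]
    rintro _ ⟨l, hl, rfl⟩
    exact ⟨⟨e l, subset_closure ⟨l, hl, rfl⟩⟩, rfl⟩
  have hπi : Function.Bijective π :=
    (Nat.bijective_iff_surjective_and_card π).2 ⟨hπ, le_antisymm hKcard (Nat.card_le_card_of_surjective π hπ)⟩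
  let φ : S →* G := ((MonoidHom.fst G S).comp K.subtype).comp (MulEquiv.ofBijective π hπi).symm.toMonoidHom
  have hφ : ∀ l, l < D.L → φ (b l) = a l := by
    intro l hl
    have : (MulEquiv.ofBijective π hπi).symm (b l) = ⟨e l, subset_closure ⟨l, hl, rfl⟩⟩ := by
      rw [MulEquiv.symm_apply_eq]; rfl
    show ((MulEquiv.ofBijective π hπi).symm (b l)).1.1 = a l
    rw [this]
  have hsurj : Function.Surjective φ := by
    rw [← MonoidHom.range_eq_top, eq_top_iff, ← hgenG, closure_le]
    rintro _ ⟨l, hl, rfl⟩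
    exact ⟨b l, hφ l hl⟩
  have hker : φ.ker = ⊥ := by
    rcases (inferInstance : φ.ker.Normal).eq_bot_or_eq_top with h | h
    · exact h
    · obtain ⟨g, hg⟩ := hne
      obtain ⟨s, rfl⟩ := hsurj g
      exact absurd (MonoidHom.mem_ker.1 (h ▸ mem_top s)) hg
  exact ⟨(MulEquiv.ofBijective φ ⟨(MonoidHom.ker_eq_bot_iff φ).1 hker, hsurj⟩).symm⟩

end Cfsg.Agent.H95.Held
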