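/-!
Generated tables for the trio side inside the Mathieu group.
-/

set_option autoImplicit false

namespace Cfsg.Agent.H95.Held.M24

/-- tables of the labelled translations -/
def labT : List Nat := [984818244535754528103549039458486304, 626549206349429926473995082596145510, 652373075040052275873917899890788704, 958718035441922420605464924846676006, 464289810698890514814892513062833648, 67079893078111846907729283016857326, 48767891582763457147452489709702896, 482325471791029146477008009052820974, 146261786287366217854178837448604197, 392895649745757671866519628322160915, 395353865682062653984595258559150341, 143527229947851477637941909894447667, 333184790628639399124364717178853686, 714818689285165176928702861026558050, 706891994550687108980574088234834038, 340835144959907708974332192653410594, 486318435020449618331865378531314144, 44972647213700211264502537883540198, 70403556597652023706560068046064352, 459825266619946973875915976787384806, 962710998642300338590674002030742576, 648577830641946476121319655770199406, 629872869839927549403177575330925936, 980353700427768433294924210888610862, 353914350384712778459081760034896165, 725163338370455506197215500853887091, 727228595000089951357425843958757477, 350786834738527501284979545348620595, 125453604959397752523559622633298486, 382472379088572256602104816535568642, 374152725047423651696110756611725590, 132710999983995525415661810975736354, 153716076889005151732176743621691936, 376984287593079238462670347437594886, 402814494536702723244992953420581120, 127622206048174179616492417698224678,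 339340016664792608820106800739503408, 731359222082188708436592965102638190, 713053558839841454058715960483826800, 357382016009932375864622085417833774, 976694614610155069296045100379519013, 641791229178147834948338330574831987, 644255783367453952448813749500164453, 973966396523641464462207961513705523, 457465245338776780189644396596304374, 49870020957127790470333146034897634, 41949664475650857904604161931516662, 465121937923046225422011660759204322, 361368647176051908758351369375942944, 709251982407477269214637923137280102, 734885709697765217472222313755740256, 335078296681885400117928828087949606, 131608837185251158640573409361907248, 399012918075295984531266623779607822, 380510775179613193628651403796270352, 149454356877055389160350478675711534, 478194811284550355945633142620305893, 60214676232118316160117489030185715, 62482750768088897135854692590992101, 475270113544701214587057788389966323, 955886439471886800386697588732172342, 631367964710662616105195221956198754, 623251128575850147014728022488291702, 963346652402820709094326637530546210]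

/-- tables of the complement parts -/
def kT : List Nat := [463719370179800568409302594113555950, 250942980745576218296806597829701327, 644590413144553598651267215122545190, 706652466787334161939036465269152054, 66941723079625180575144914562881254, 984818244535754528103549039458486304, 473903113314491851400306202471617636]

/-- an invariant partition of the positions, by block number -/
def blockOf : List Nat := [0, 1, 1, 0, 1, 2, 3, 4, 5, 3, 6, 7, 7, 2, 4, 6, 5, 4, 3, 6, 5, 0, 7, 2]

end Cfsg.Agent.H95.Held.M24
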