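import Cfsg.Agent.H95.Held.Cert
import Cfsg.Agent.H95.Held.Graph
import Cfsg.Agent.Linear.Simple

/-!
Identification of `SL(5,2)` from seven involutions satisfying the relators of the certificate.
-/

set_option autoImplicit false
set_option maxRecDepth 100000
set_option linter.style.haveILetI false

namespace Cfsg.Agent.H95.Held.L52

open Cfsg.Agent.H45 Matrix
open scoped Pointwise

universe u

/-- a letter as a matrix -/
def bl (l : ℕ) : SL5 := invol (mats.getD l idB)

/-- a letter in a group -/
def al {G : Type u} [Group G] (a : Fin 7 → G) (l : ℕ) : G := if h : l < 7 then a ⟨l, h⟩ else 1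

theorem toGL_val {n : Type*} [DecidableEq n] [Fintype n] {R : Type*} [CommRing R] (M : Matrix n n R)
    (h : M.det = 1) :
    ((Matrix.SpecialLinearGroup.toGL ⟨M, h⟩ : GL n R) : Matrix n n R) = M :=
  rfl

theorem card_SL5 : Nat.card SL5 = 9999360 := by
  have hbij : Function.Bijective
      (Matrix.SpecialLinearGroup.toGL (n := Fin 5) (R := ZMod 2)) := by
    refine ⟨fun a b e => Subtype.ext ?_, fun g => ?_⟩
    · exact congrArg (fun u : GL (Fin 5) (ZMod 2) => (u : Matrix (Fin 5) (Fin 5) (ZMod 2))) e
    · have h1 : ∀ x : ZMod 2, x ≠ 0 → x = 1 := by decide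
      have hd : (g : Matrix (Fin 5) (Fin 5) (ZMod 2)).det = 1 :=
        h1 _ ((Matrix.isUnit_iff_isUnit_det _).1 g.isUnit).ne_zero
      refine ⟨⟨(g : Matrix (Fin 5) (Fin 5) (ZMod 2)), hd⟩, ?_⟩
      exact Units.ext (toGL_val _ hd)
  rw [Nat.card_eq_of_bijective _ hbij, Matrix.card_GL_field]
  simp [Fin.prod_univ_five, ZMod.card]

theorem center_SL5 : Subgroup.center SL5 = ⊥ := by
  rw [Subgroup.eq_bot_iff_forall]
  intro A hA
  obtain ⟨r, -, hA'⟩ := Matrix.SpecialLinearGroup.mem_center_iff.1 hA
  have hd := A.2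
  rw [← hA', Matrix.scalar_apply, Matrix.det_diagonal, Finset.prod_const, Finset.card_univ,
    Fintype.card_fin] at hd
  have key : ∀ x : ZMod 2, x ^ 5 = 1 → x = 1 := by decide
  have hr : r = 1 := key r hd
  exact Subtype.ext (by rw [← hA', hr, map_one]; rfl)

instance simple_SL5 : IsSimpleGroup SL5 := by
  haveI : IsSimpleGroup (Matrix.ProjectiveSpecialLinearGroup (Fin 5) (ZMod 2)) :=
    Cfsg.Agent.Linear.isSimpleGroup_PSL (Or.inl (by simp))
  exact ((QuotientGroup.quotientMulEquivOfEq center_SL5).trans QuotientGroup.quotientBot).symm.isSimpleGroup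

theorem mats_ok : ∀ m ∈ mats, mulB m m = idB := by decide +kernel

theorem eval_bl (w : List ℕ) (hw : w.all (fun l => decide (l < 7)) = true) :
    (evalW bl w).1 = mat (prodB (w.map fun l => mats.getD l idB)) := by
  have h : evalW bl w = ((w.map fun l => mats.getD l idB).map invol).prod := by
    rw [evalW, List.map_map]; rfl
  rw [h]
  refine coe_prod_invol _ fun m hm => ?_
  obtain ⟨l, hl, rfl⟩ := List.mem_map.1 hm
  have hlen : l < mats.length := of_decide_eq_true (List.all_eq_true.1 hw l hl)
  rw [List.getD_eq_getElem?_getD, List.getElem?_eq_getElem hlen]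
  exact mats_ok _ (List.getElem_mem _)

theorem rels_range : ∀ w ∈ rels, w.all (fun l => decide (l < 7)) = true := by decide +kernel

theorem rels_val : ∀ w ∈ rels, prodB (w.map fun l => mats.getD l idB) = idB := by decide +kernel

theorem rel_bl (w : List ℕ) (hw : w ∈ rels) : evalW bl w = 1 :=
  Subtype.ext (by rw [eval_bl w (rels_range w hw), rels_val w hw, mat_idB]; rfl)

/-- the plane set of an index -/
def plane (i : ℕ) : Finset (Fin 5 → ZMod 2) := ((planes.getD i []).map vec).toFinset

/-- the code of a plane -/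
def code (i : ℕ) : ℕ := ((planes.getD i []).map fun v => 2 ^ v).sum

theorem plane_moves : ∀ i < 155, ∀ l < 7,
    ((planes.getD i []).map (actB (mats.getD l idB))).toFinset =
      (planes.getD (tget dat.cols i l) []).toFinset := by
  decide +kernel

theorem smul_plane {i l : ℕ} (hi : i < 155) (hl : l < 7) :
    bl l • plane i = plane (tget dat.cols i l) := by
  classical
  have hm : (bl l).1 = mat (mats.getD l idB) := by
    refine invol_val ?_
    rw [List.getD_eq_getElem?_getD, List.getElem?_eq_getElem (show l < mats.length from hl)]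
    exact mats_ok _ (List.getElem_mem _)
  have hs : ∀ v, bl l • vec v = vec (actB (mats.getD l idB) v) := fun v => by
    rw [vec_actB, Matrix.SpecialLinearGroup.smul_def, hm]
    rfl
  have key := plane_moves i hi l hl
  ext x
  simp only [Finset.mem_smul_finset, plane, List.mem_toFinset, List.mem_map]
  constructor
  · rintro ⟨_, ⟨v, hv, rfl⟩, rfl⟩
    refine ⟨actB (mats.getD l idB) v, ?_, (hs v).symm⟩
    have : actB (mats.getD l idB) v ∈ ((planes.getD i []).map (actB (mats.getD l idB))).toFinset :=
      List.mem_toFinset.2 (List.mem_map_of_mem hv)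
    rwa [key, List.mem_toFinset] at this
  · rintro ⟨u, hu, rfl⟩
    have : u ∈ ((planes.getD i []).map (actB (mats.getD l idB))).toFinset := by
      rw [key]; exact List.mem_toFinset.2 hu
    obtain ⟨v, hv, rfl⟩ := List.mem_map.1 (List.mem_toFinset.1 this)
    exact ⟨vec v, ⟨v, hv, rfl⟩, hs v⟩

theorem planes_small : ∀ i < 155, ∀ v ∈ planes.getD i [], v < 32 := by decide +kernel

theorem planes_distinct : ∀ i < 155, ∀ j < 155,
    (planes.getD i []).toFinset = (planes.getD j []).toFinset → i = j := by
  decide +kernel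

theorem vec_inj : ∀ u < 32, ∀ v < 32, vec u = vec v → u = v := by decide +kernel

theorem plane_inj : Function.Injective fun i : Fin 155 => plane i := by
  intro i j h
  refine Fin.ext (planes_distinct i i.2 j j.2 ?_)
  ext v
  have hmem : ∀ k < 155, ∀ v < 32, (vec v ∈ plane k ↔ v ∈ (planes.getD k []).toFinset) := by
    intro k hk v hv
    simp only [plane, List.mem_toFinset, List.mem_map]
    exact ⟨fun ⟨u, hu, e⟩ => vec_inj u (planes_small k hk u hu) v hv e ▸ hu, fun h => ⟨v, h, rfl⟩⟩
  by_cases hv : v < 32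
  · rw [← hmem i i.2 v hv, ← hmem j j.2 v hv]
    exact Eq.to_iff (congrArg (vec v ∈ ·) h)
  · simp only [List.mem_toFinset]
    exact ⟨fun h => absurd (planes_small i i.2 v h) hv, fun h => absurd (planes_small j j.2 v h) hv⟩

theorem tget_lt : ∀ i < 155, ∀ l < 7, tget dat.cols i l < 155 := by decide +kernel

theorem iv_eq (l : ℕ) : linv dat.iv l = l := by
  show linv (List.range 7) l = l
  unfold linv
  rcases Nat.lt_or_ge l 7 with h | h
  · simp [List.getD_eq_getElem?_getD, h]
  · simp [List.getD_eq_getElem?_getD,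
      List.getElem?_eq_none (by simpa using h : (List.range 7).length ≤ l)]

theorem sub_fix : ∀ l ∈ sub, l < 7 ∧ tget dat.cols 0 l = 0 := by decide +kernel

theorem transvection_words : ∀ i j : Fin 5, i ≠ j →
    (trWords.getD (5 * i.1 + j.1) []).all (fun l => decide (l < 7)) = true ∧
      mat (prodB ((trWords.getD (5 * i.1 + j.1) []).map fun l => mats.getD l idB)) =
        Matrix.transvection i j (1 : ZMod 2) := by
  decide +kernel

theorem gen_bl : Subgroup.closure {s : SL5 | ∃ l, l < dat.L ∧ bl l = s} = ⊤ := by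
  refine Cfsg.Agent.Linear.eq_top_of_transvection_mem fun i j hij c => ?_
  obtain ⟨hr, he⟩ := transvection_words i j hij
  have hc : c = 0 ∨ c = 1 := by revert c; decide
  rcases hc with rfl | rfl
  · convert Subgroup.one_mem _
    exact Subtype.ext (by simp [Matrix.SpecialLinearGroup.transvection_coe])
  · convert (?_ : evalW bl (trWords.getD (5 * i.1 + j.1) []) ∈
      Subgroup.closure {s : SL5 | ∃ l, l < dat.L ∧ bl l = s}) using 1
    · apply Subtype.ext
      rw [eval_bl _ hr, he]
      simp [Matrix.SpecialLinearGroup.transvection_coe, Matrix.transvection]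
    · refine Subgroup.list_prod_mem _ fun x hx => ?_
      obtain ⟨l, hl, rfl⟩ := List.mem_map.1 hx
      exact Subgroup.subset_closure ⟨l, of_decide_eq_true (List.all_eq_true.1 hr l hl), rfl⟩

theorem card_sub_le :
    155 * Nat.card ↥(Subgroup.closure {s : SL5 | ∃ l ∈ sub, bl l = s}) ≤ Nat.card SL5 := by
  classical
  obtain ⟨htr, -⟩ := closeCheck_sound (H := (⊤ : Subgroup SL5)) (E := ⊤) (e := bl) (D := dat)
    ⟨fun l => by rw [iv_eq]; exact invol_inv.symm, rel_bl, fun _ _ => Subgroup.mem_top _⟩
    (fun _ _ => Subgroup.mem_top _) close_ok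
  have horb : ∀ i, i < 155 → plane i ∈ MulAction.orbit SL5 (plane 0) := by
    intro i
    induction i using Nat.strong_induction_on with
    | _ i ih =>
      intro hi
      rcases Nat.eq_zero_or_pos i with rfl | h0
      · exact MulAction.mem_orbit_self _
      obtain ⟨p, l, hp, hl, e⟩ := htr i h0 hi
      rw [← e, ← smul_plane (hp.trans hi) hl]
      exact MulAction.mem_orbit_of_mem_orbit (bl l) (ih p hp (hp.trans hi))
  refine card_mul_le (x := plane 0) (fun i : Fin 155 => plane i) plane_inj (fun i => horb i i.2) ?_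
  refine (Subgroup.closure_le _).2 ?_
  rintro _ ⟨l, hl, rfl⟩
  obtain ⟨h1, h2⟩ := sub_fix l hl
  show bl l • plane 0 = plane 0
  rw [smul_plane (by norm_num) h1, h2]

/-- **`SL(5,2)` from the certificate.** Seven involutions (or ones) satisfying the sixteen relators, the
five letters of the normaliser matching those of the model, generate `SL(5,2)` if they generate a
nontrivial group. -/
theorem iso_SL5 {G : Type u} [Group G] (a : Fin 7 → G) (hsq : ∀ l, a l * a l = 1)
    (hrel : ∀ w ∈ rels, evalW (al a) w = 1) (hgen : Subgroup.closure (Set.range a) = ⊤)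
    (f : ↥(Subgroup.closure {s : SL5 | ∃ l ∈ sub, bl l = s}) →* G)
    (hf : ∀ l (hl : l ∈ sub), f ⟨bl l, Subgroup.subset_closure ⟨l, hl, rfl⟩⟩ = al a l)
    (hne : ∃ g : G, g ≠ 1) : Nonempty (G ≃* SL5) := by
  refine iso_of_cert (D := dat) close_ok (by norm_num) tget_lt (fun l hl => by rw [iv_eq]; exact hl)
    sub rfl (al a) bl (fun l => ?_) (fun l => by rw [iv_eq]; exact invol_inv.symm) hrel rel_bl
    card_sub_le gen_bl ?_ f hf hne
  · rw [iv_eq, eq_inv_iff_mul_eq_one, al]
    split
    · exact hsq _
    · exact one_mul 1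
  · rw [← hgen]
    congr 1
    ext g
    constructor
    · rintro ⟨l, hl, rfl⟩
      exact ⟨⟨l, hl⟩, by rw [al, dif_pos (show l < 7 from hl)]⟩
    · rintro ⟨l, rfl⟩
      exact ⟨l.1, l.2, by rw [al, dif_pos l.2]⟩

end Cfsg.Agent.H95.Held.L52
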