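import Cfsg.Agent.H95.Held.Specs
import Cfsg.Agent.H95.Held.Main
import Cfsg.Agent.H95.Held.M24Data
import Cfsg.Agent.H83.Held.Main
import Cfsg.Agent.H25.Held.He

/-!
The completion theorems from local data: a group generated by the centraliser and an outer involution acting as
tabulated on the two groups of order 64 is SL(5,2), the Mathieu group on 24 points, or the Held group.
-/

set_option autoImplicit false
set_option maxRecDepth 100000
set_option linter.style.haveILetI false

namespace Cfsg.Agent.H95.Held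

open Cfsg.Agent.H45 Cfsg.Agent.H98.Held Subgroup
open scoped Pointwise

universe u

theorem gen_el {G : Type u} [Group G] (B : Emb G) {S : Spec} {g : G} (h : S.ok = true) {sw rw : List (List ℕ)}
    (hgen : genOk S sw rw = true) (ho : S.out < 7) (htop : centralizer ({B.z} : Set G) ⊔ closure {g} = ⊤) :
    closure {x | ∃ l, l < 7 ∧ S.el B g l = x} = ⊤ := by
  rw [eq_top_iff, ← htop, sup_le_iff, ← closure_letters B h hgen, closure_le, closure_le]
  refine ⟨?_, ?_⟩
  · rintro _ ⟨l, hl, hne, rfl⟩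
    exact subset_closure ⟨l, hl, by rw [Spec.el, if_neg hne]⟩
  · rintro _ rfl
    exact subset_closure ⟨S.out, ho, by rw [Spec.el, if_pos rfl]⟩

theorem exists_ne_one {G : Type u} [Group G] (B : Emb G) : ∃ g : G, g ≠ 1 := ⟨B.z, B.z_ne⟩

namespace L52

open Cfsg.Agent.H95.Held

/-- The labelled translations of the model. -/
def iotaS (i : ℕ) : SL5 := invol (aOne.getD i 0)

/-- The invariant plane. -/
def fixV : List ℕ := [0, 3, 8, 11, 16, 19, 24, 27]

/-- The stabiliser of the plane. -/
def KS : Subgroup SL5 := MulAction.stabilizer SL5 (fixV.map vec).toFinset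

/-- Complement parts of the letters, the outer one being its own. -/
def kS (l : ℕ) : ℕ := if l = 6 then mats.getD 6 idB else (spec.dA l).2.1

theorem model_tables : ((List.range 64).all fun a =>
      Nat.beq (mulB (aOne.getD a 0) (aOne.getD a 0)) idB &&
        (List.range 64).all fun b => Nat.beq (mulB (aOne.getD a 0) (aOne.getD b 0)) (aOne.getD (a ^^^ b) 0)) = true ∧
    (∀ c < 64, mat (aOne.getD c 0) = 1 → c = 0) ∧
    ((List.range 64).all fun a => Nat.beq a 0 || fixV.any fun v => !(fixV.contains (actB (aOne.getD a 0) v))) = true ∧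
    (sub.all fun l => Nat.ble ((spec.dA l).1 + 1) 64 && Nat.beq (mulB (kS l) (kS l)) idB &&
      (fixV.all fun v => fixV.contains (actB (kS l) v)) &&
      Nat.beq (mulB (aOne.getD (spec.dA l).1 0) (kS l)) (mats.getD l idB) &&
      Nat.beq (mulB (mats.getD l idB) (mats.getD l idB)) idB &&
      (List.range 64).all fun i => Nat.ble ((spec.pA l).getD i 64 + 1) 64 &&
        Nat.beq (mulB (mulB (kS l) (aOne.getD i 0)) (kS l))
          (aOne.getD ((spec.dA l).1 ^^^ (spec.pA l).getD i 64) 0)) = true ∧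
    fixV.all (fun v => Nat.ble (v + 1) 32) = true ∧
    (∀ a < 32, ∀ b < 32, vec a = vec b → a = b) := by
  decide +kernel

theorem invol_mul {a b c : ℕ} (ha : mulB a a = idB) (hb : mulB b b = idB) (hc : mulB c c = idB)
    (h : mulB a b = c) : invol a * invol b = invol c := by
  refine Subtype.ext ?_
  show (invol a).1 * (invol b).1 = (invol c).1
  rw [invol_val ha, invol_val hb, invol_val hc, ← mat_mulB, h]

theorem labS : Lab iotaS KS := by
  obtain ⟨h1, h2, h3, -, h5, h6⟩ := model_tables
  simp only [List.all_eq_true, List.mem_range, Bool.and_eq_true, Nat.beq_eq] at h1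
  have hmul : ∀ a, a < 64 → ∀ b, b < 64 → iotaS a * iotaS b = iotaS (a ^^^ b) := fun a ha b hb =>
    invol_mul (h1 a ha).1 (h1 b hb).1 (h1 _ (xor_lt64 ha hb)).1 ((h1 a ha).2 b hb)
  refine ⟨hmul, fun a ha b hb e => ?_, fun a ha hm => ?_⟩
  · have h0 : iotaS (a ^^^ b) = 1 := by
      rw [← hmul a ha b hb, e, hmul b hb b hb]
      refine Subtype.ext ?_
      rw [Nat.xor_self, iotaS, invol_val (h1 0 (by norm_num)).1]
      decide +kernel
    have := h2 _ (xor_lt64 ha hb) (by
      rw [← invol_val (h1 _ (xor_lt64 ha hb)).1]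
      exact congrArg Subtype.val h0)
    calc a = a ^^^ (a ^^^ b) := by rw [this, Nat.xor_zero]
      _ = b := xor_cancel_left' a b
  · by_contra ha0
    have h := List.all_eq_true.1 h3 a (List.mem_range.2 ha)
    simp only [Bool.or_eq_true, Nat.beq_eq, List.any_eq_true, Bool.not_eq_true', List.contains_eq_mem,
      decide_eq_false_iff_not] at h
    obtain ⟨v, hv, hnv⟩ := h.resolve_left ha0
    have hv' : iotaS a • vec v ∈ (fixV.map vec).toFinset := by
      have hst : iotaS a • (fixV.map vec).toFinset = (fixV.map vec).toFinset := hm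
      rw [← hst]
      exact Finset.smul_mem_smul_finset (List.mem_toFinset.2 (List.mem_map_of_mem hv))
    have hval : iotaS a • vec v = vec (actB (aOne.getD a 0) v) := by
      rw [vec_actB, Matrix.SpecialLinearGroup.smul_def, iotaS, invol_val (h1 a ha).1]
      rfl
    rw [hval, List.mem_toFinset, List.mem_map] at hv'
    obtain ⟨w, hw, e⟩ := hv'
    have hw32 : w < 32 := Nat.lt_of_succ_le (Nat.le_of_ble_eq_true (List.all_eq_true.1 h5 w hw))
    have hlt : actB (aOne.getD a 0) v < 32 := by
      refine Nat.lt_of_not_le fun hge => ?_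
      obtain ⟨i, hi, hbit⟩ := Nat.exists_most_significant_bit (n := actB (aOne.getD a 0) v) (by omega)
      rw [actB, testBit_pack] at hi
      have : i < 5 := by
        simp only [Bool.and_eq_true, decide_eq_true_eq] at hi
        exact hi.1
      have := Nat.lt_pow_two_of_testBit (actB (aOne.getD a 0) v) (n := 5) fun j hj => by
        rw [actB, testBit_pack]; simp [show ¬ j < 5 by omega]
      omega
    exact hnv (h6 _ hw32 _ hlt e ▸ hw)

theorem affS {l : ℕ} (hl : l ∈ sub) : Aff iotaS KS (bl l) fun i => (spec.pA l).getD i 64 := by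
  classical
  obtain ⟨h1, -, -, h4, -, -⟩ := model_tables
  simp only [List.all_eq_true, List.mem_range, Bool.and_eq_true, Nat.beq_eq] at h1
  have h := List.all_eq_true.1 h4 l hl
  simp only [Bool.and_eq_true, Nat.ble_eq, Nat.beq_eq, List.all_eq_true, List.mem_range, List.contains_eq_mem,
    decide_eq_true_eq] at h
  obtain ⟨⟨⟨⟨⟨ha, hk⟩, hfix⟩, hprod⟩, hm⟩, hall⟩ := h
  have hkv : (invol (kS l)).1 = mat (kS l) := invol_val hk
  refine ⟨(spec.dA l).1, by omega, invol (kS l), ?_, ?_, fun i hi => Nat.lt_of_succ_le (hall i hi).1,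
    fun i hi => ?_⟩
  · show invol (kS l) • (fixV.map vec).toFinset = (fixV.map vec).toFinset
    refine Finset.eq_of_subset_of_card_le (fun x hx => ?_) (le_of_eq (Finset.card_smul_finset _ _).symm)
    obtain ⟨y, hy, rfl⟩ := Finset.mem_smul_finset.1 hx
    obtain ⟨v, hv, rfl⟩ := List.mem_map.1 (List.mem_toFinset.1 hy)
    refine List.mem_toFinset.2 (List.mem_map.2 ⟨_, hfix v hv, ?_⟩)
    rw [vec_actB, Matrix.SpecialLinearGroup.smul_def, hkv]
    rfl
  · exact (invol_mul (h1 _ (by omega)).1 hk hm hprod).symm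
  · have hp : (spec.dA l).1 ^^^ (spec.pA l).getD i 64 < 64 :=
      xor_lt64 (by omega) (Nat.lt_of_succ_le (hall i hi).1)
    rw [invol_inv]
    refine Subtype.ext ?_
    show (invol (kS l)).1 * (iotaS i).1 * (invol (kS l)).1 = (iotaS _).1
    rw [iotaS, iotaS, hkv, invol_val (h1 i hi).1, invol_val (h1 _ hp).1, ← mat_mulB, ← mat_mulB, (hall i hi).2]

/-- **The linear case.** -/
theorem iso_SL5_of_outer {G : Type u} [Group G] (B : Emb G) (g : G) (O : Outer B spec g)
    (htop : centralizer ({B.z} : Set G) ⊔ closure {g} = ⊤) : Nonempty (G ≃* SL5) := by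
  have hel : ∀ l, l < 7 → al (fun i : Fin 7 => spec.el B g i) l = spec.el B g l := fun l hl => by
    rw [al, dif_pos hl]
  have hsub : ∀ l ∈ sub, l < 7 ∧ l ≠ spec.skipOne := by decide
  obtain ⟨f, hf⟩ := labS.exists_hom (locA B O.disjA) sub bl (al fun i : Fin 7 => spec.el B g i) spec.pA
    (fun l hl => affS hl) fun l hl => by
      rw [hel l (hsub l hl).1]
      exact affA_el spec_ok O (hsub l hl).1 (hsub l hl).2
  refine iso_SL5 (fun i => spec.el B g i) (fun l => el_sq spec_ok O spec_sq (by decide) l.2 (by decide))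
    (fun w hw => rel_eq_one spec_ok O (List.all_eq_true.1 spec_rels w hw) hel) ?_ f hf (exists_ne_one B)
  rw [← gen_el B spec_ok spec_gen (by decide : spec.out < 7) htop]
  congr 1
  ext x
  exact ⟨fun ⟨i, e⟩ => ⟨i.1, i.2, e⟩, fun ⟨l, hl, e⟩ => ⟨⟨l, hl⟩, e⟩⟩

end L52

namespace M24

open Cfsg.Agent.Golay

/-- The table of a labelled translation. -/
def labTbl (i : ℕ) : ℕ := labT.getD i idTblVal

/-- The table of a complement part. -/
def kTbl (l : ℕ) : ℕ := kT.getD l idTblVal

/-- The block of a position. -/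
def blk (i : ℕ) : ℕ := blockOf.getD i 0

theorem model_tables : ((List.range 64).all fun a => inM24 (labTbl a) &&
      (List.range 64).all fun b => tblEq (tblMul (labTbl a) (labTbl b)) (labTbl (a ^^^ b))) = true ∧
    tblEq (labTbl 0) idTblVal = true ∧
    ((List.range 64).all fun a => Nat.beq a 0 || (List.range 24).any fun i => (List.range 24).any fun j =>
      Nat.beq (blk i) (blk j) && !(Nat.beq (blk (app (labTbl a) i)) (blk (app (labTbl a) j)))) = true ∧
    ((List.range 64).all fun a => Nat.beq a 0 || !(tblEq (labTbl a) idTblVal)) = true ∧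
    (H83.Held.M24.sub.all fun l => Nat.ble ((spec.dA l).1 + 1) 64 && inM24 (kTbl l) &&
      ((List.range 24).all fun i => (List.range 24).all fun j => !(Nat.beq (blk i) (blk j)) ||
        Nat.beq (blk (app (kTbl l) i)) (blk (app (kTbl l) j))) &&
      tblEq (tblMul (labTbl (spec.dA l).1) (kTbl l)) (H83.Held.M24.tbl l) &&
      (List.range 64).all fun i => Nat.ble ((spec.pA l).getD i 64 + 1) 64 &&
        tblEq (tblMul (kTbl l) (labTbl i))
          (tblMul (labTbl ((spec.dA l).1 ^^^ (spec.pA l).getD i 64)) (kTbl l))) = true := by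
  decide +kernel

/-- The labelled translations of the model. -/
noncomputable def iotaM (i : ℕ) : H83.Held.M24.M :=
  if h : inM24 (labTbl i) = true then ⟨mkPerm (labTbl i), mem_M24_of_inM24 h⟩ else 1

/-- The permutations preserving the partition. -/
def blockSub : Submonoid H83.Held.M24.M where
  carrier := {s | ∀ p q : GolayPt, blk (idx p) = blk (idx q) →
    blk (idx ((s : Equiv.Perm GolayPt) p)) = blk (idx ((s : Equiv.Perm GolayPt) q))}
  one_mem' := fun _ _ h => h
  mul_mem' := fun hs ht p q h => hs _ _ (ht p q h)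

/-- The same as a subgroup. -/
noncomputable def KM : Subgroup H83.Held.M24.M where
  toSubmonoid := blockSub
  inv_mem' := fun {s} hs => by
    obtain ⟨n, hn⟩ : ∃ n : ℕ, s⁻¹ = s ^ n := ⟨orderOf s - 1, by
      rw [eq_comm, eq_inv_iff_mul_eq_one, ← pow_succ, Nat.sub_add_cancel (orderOf_pos s), pow_orderOf_eq_one]⟩
    rw [hn]
    exact blockSub.pow_mem hs n

theorem iotaM_val {a : ℕ} (ha : a < 64) :
    (iotaM a : Equiv.Perm GolayPt) = mkPerm (labTbl a) ∧ validT (labTbl a) = true := by
  have h := List.all_eq_true.1 model_tables.1 a (List.mem_range.2 ha)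
  rw [Bool.and_eq_true] at h
  exact ⟨by rw [iotaM, dif_pos h.1], validT_of_inM24 h.1⟩

theorem labM : Lab iotaM KM := by
  obtain ⟨h1, h0, h3, h4, -⟩ := model_tables
  have hmul : ∀ a, a < 64 → ∀ b, b < 64 → iotaM a * iotaM b = iotaM (a ^^^ b) := fun a ha b hb => by
    have h := List.all_eq_true.1 h1 a (List.mem_range.2 ha)
    rw [Bool.and_eq_true] at h
    obtain ⟨va, wa⟩ := iotaM_val ha
    obtain ⟨vb, wb⟩ := iotaM_val hb
    obtain ⟨vc, wc⟩ := iotaM_val (xor_lt64 ha hb)
    obtain ⟨hv, e⟩ := tblMul_spec wa wb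
    refine Subtype.ext ?_
    show (iotaM a : Equiv.Perm GolayPt) * (iotaM b : Equiv.Perm GolayPt) = _
    rw [va, vb, vc, ← e]
    exact mkPerm_eq_of_tblEq hv wc (List.all_eq_true.1 h.2 b (List.mem_range.2 hb))
  have hone : iotaM 0 = 1 := by
    obtain ⟨va, wa⟩ := iotaM_val (a := 0) (by norm_num)
    refine Subtype.ext ?_
    rw [va, mkPerm_eq_of_tblEq wa H83.Held.M24.valid_id h0, H83.Held.M24.mkPerm_id]
    rfl
  refine ⟨hmul, fun a ha b hb e => ?_, fun a ha hm => ?_⟩
  · have hc : iotaM (a ^^^ b) = 1 := by rw [← hmul a ha b hb, e, hmul b hb b hb, Nat.xor_self, hone]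
    have hab : a ^^^ b = 0 := by
      by_contra hne
      have h := List.all_eq_true.1 h4 _ (List.mem_range.2 (xor_lt64 ha hb))
      simp only [Bool.or_eq_true, Nat.beq_eq, Bool.not_eq_true'] at h
      have h' := h.resolve_left hne
      obtain ⟨vc, wc⟩ := iotaM_val (xor_lt64 ha hb)
      rw [hc] at vc
      have he : mkPerm (labTbl (a ^^^ b)) = mkPerm idTblVal := by
        rw [← vc, H83.Held.M24.mkPerm_id]; rfl
      have : tblEq (labTbl (a ^^^ b)) idTblVal = true := by
        rw [tblEq, List.all_eq_true]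
        intro i hi
        rw [beq_iff_eq, ← idx_pt i (List.mem_range.1 hi), ← idx_mkPerm wc, ← idx_mkPerm H83.Held.M24.valid_id, he]
      rw [this] at h'
      exact Bool.noConfusion h'
    calc a = a ^^^ (a ^^^ b) := by rw [hab, Nat.xor_zero]
      _ = b := xor_cancel_left' a b
  · by_contra ha0
    have h := List.all_eq_true.1 h3 a (List.mem_range.2 ha)
    simp only [Bool.or_eq_true, Nat.beq_eq, List.any_eq_true, List.mem_range, Bool.and_eq_true,
      Bool.not_eq_true'] at h
    obtain ⟨i, hi, j, hj, hij, hne⟩ := h.resolve_left ha0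
    obtain ⟨va, wa⟩ := iotaM_val ha
    have h' := hm (pt i) (pt j) (by rw [idx_pt i hi, idx_pt j hj, hij])
    rw [va, idx_mkPerm wa, idx_mkPerm wa, idx_pt i hi, idx_pt j hj] at h'
    exact beq_ne.1 hne h'

theorem affM {l : ℕ} (hl : l ∈ H83.Held.M24.sub) :
    Aff iotaM KM (H83.Held.M24.bl l) fun i => (spec.pA l).getD i 64 := by
  have h := List.all_eq_true.1 model_tables.2.2.2.2 l hl
  simp only [Bool.and_eq_true, Nat.ble_eq, List.all_eq_true, List.mem_range] at h
  obtain ⟨⟨⟨⟨ha, hk⟩, hblk⟩, hprod⟩, hall⟩ := h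
  have wk := validT_of_inM24 hk
  refine ⟨(spec.dA l).1, by omega, ⟨mkPerm (kTbl l), mem_M24_of_inM24 hk⟩, ?_, ?_,
    fun i hi => Nat.lt_of_succ_le (hall i hi).1, fun i hi => ?_⟩
  · intro p q hpq
    have h' := hblk (idx p) (idx_lt p) (idx q) (idx_lt q)
    simp only [Bool.or_eq_true, Bool.not_eq_true', Nat.beq_eq] at h'
    show blk (idx (mkPerm (kTbl l) p)) = blk (idx (mkPerm (kTbl l) q))
    rw [idx_mkPerm wk, idx_mkPerm wk]
    exact h'.resolve_left fun hf => beq_ne.1 hf hpq
  · obtain ⟨va, wa⟩ := iotaM_val (a := (spec.dA l).1) (by omega)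
    obtain ⟨hv, e⟩ := tblMul_spec wa wk
    refine Subtype.ext ?_
    show mkPerm (H83.Held.M24.tbl l) = (iotaM (spec.dA l).1 : Equiv.Perm GolayPt) * mkPerm (kTbl l)
    rw [va, ← e]
    exact (mkPerm_eq_of_tblEq hv (H83.Held.M24.valid_tbl l) hprod).symm
  · have hp : (spec.dA l).1 ^^^ (spec.pA l).getD i 64 < 64 :=
      xor_lt64 (by omega) (Nat.lt_of_succ_le (hall i hi).1)
    rw [mul_inv_eq_iff_eq_mul]
    obtain ⟨va, wa⟩ := iotaM_val hi
    obtain ⟨vc, wc⟩ := iotaM_val hp
    obtain ⟨hv1, e1⟩ := tblMul_spec wk wa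
    obtain ⟨hv2, e2⟩ := tblMul_spec wc wk
    refine Subtype.ext ?_
    show mkPerm (kTbl l) * (iotaM i : Equiv.Perm GolayPt) = (iotaM _ : Equiv.Perm GolayPt) * mkPerm (kTbl l)
    rw [va, vc, ← e1, ← e2]
    exact mkPerm_eq_of_tblEq hv1 hv2 (hall i hi).2

/-- **The Mathieu case.** -/
theorem iso_M24_of_outer {G : Type u} [Group G] (B : Emb G) (g : G) (O : Outer B spec g)
    (htop : centralizer ({B.z} : Set G) ⊔ closure {g} = ⊤) : Nonempty (G ≃* ↥Cfsg.M24) := by
  have hel : ∀ l, l < 7 → H83.Held.M24.al (fun i : Fin 7 => spec.el B g i) l = spec.el B g l := fun l hl => by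
    rw [H83.Held.M24.al, dif_pos hl]
  have hsub : ∀ l ∈ H83.Held.M24.sub, l < 7 ∧ l ≠ spec.skipOne := by decide
  obtain ⟨f, hf⟩ := labM.exists_hom (locA B O.disjA) H83.Held.M24.sub H83.Held.M24.bl
    (H83.Held.M24.al fun i : Fin 7 => spec.el B g i) spec.pA (fun l hl => affM hl) fun l hl => by
      rw [hel l (hsub l hl).1]
      exact affA_el spec_ok O (hsub l hl).1 (hsub l hl).2
  refine H83.Held.M24.iso_M24 (fun i => spec.el B g i)
    (fun l => el_sq spec_ok O spec_sq (by decide) l.2 (by decide))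
    (fun w hw => rel_eq_one spec_ok O (List.all_eq_true.1 spec_rels w hw) hel) ?_ f hf (exists_ne_one B)
  rw [← gen_el B spec_ok spec_gen (by decide : spec.out < 7) htop]
  congr 1
  ext x
  exact ⟨fun ⟨i, e⟩ => ⟨i.1, i.2, e⟩, fun ⟨l, hl, e⟩ => ⟨⟨l, hl⟩, e⟩⟩

end M24

namespace He

/-- The letters of the Held case generate a copy of He together with every relator. -/
theorem rels_hold {G : Type u} [Group G] (B : Emb G) (g : G) (O : Outer B spec g) :
    ∀ w ∈ H25.Held.heRels, evalW (spec.el B g) w = 1 := by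
  intro w hw
  refine rel_eq_one spec_ok O ?_ fun _ _ => rfl
  simp only [H25.Held.heRels, List.mem_append] at hw
  rcases hw with ((hw | hw) | hw) | hw
  · exact List.all_eq_true.1 spec_relsZero w hw
  · exact List.all_eq_true.1 spec_relsOne w hw
  · exact List.all_eq_true.1 spec_relsTwo w hw
  · exact List.all_eq_true.1 spec_relsThree w hw

/-- **The Held case.** -/
theorem isoHe_of_outer {G : Type u} [Group G] (B : Emb G) (g : G) (O : Outer B spec g)
    (htop : centralizer ({B.z} : Set G) ⊔ closure {g} = ⊤) : Cfsg.Spor.IsoHe G := by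
  haveI : Nontrivial G := ⟨B.z, 1, B.z_ne⟩
  exact H25.Held.isoHe_of_rels (spec.el B g) (rels_hold B g O) (gen_el B spec_ok spec_gen (by decide) htop)

end He

end Cfsg.Agent.H95.Held
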