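import Cfsg.Agent.H95.Held.Local

/-!
The relator words of a completion hold in any group with the involution centraliser, given the outer involution with
its action on the two groups of order 64; the six inner letters generate the centraliser.
-/

set_option autoImplicit false
set_option linter.style.haveILetI false

namespace Cfsg.Agent.H95.Held

open Cfsg.Agent.H45 Cfsg.Agent.H98.Held Subgroup

universe u

/-- The data of seven letters: codes, the outer letter, the letters absent from the two local groups, decompositions,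
and affine maps. -/
structure Spec where
  cs : List ℕ
  out : ℕ
  skipOne : ℕ
  skipTwo : ℕ
  dOne : List (ℕ × ℕ × ℕ)
  dTwo : List (ℕ × ℕ × ℕ)
  pOne : List (List ℕ)
  pTwo : List (List ℕ)

/-- The code of a letter. -/
def Spec.c (S : Spec) (l : ℕ) : ℕ := S.cs.getD l oneC

/-- The decomposition of a letter on the first side. -/
def Spec.dA (S : Spec) (l : ℕ) : ℕ × ℕ × ℕ := S.dOne.getD l (0, oneC, oneC)

/-- The decomposition of a letter on the second side. -/
def Spec.dB (S : Spec) (l : ℕ) : ℕ × ℕ × ℕ := S.dTwo.getD l (0, oneC, oneC)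

/-- The map of a letter on the first side. -/
def Spec.pA (S : Spec) (l : ℕ) : List ℕ := S.pOne.getD l []

/-- The map of a letter on the second side. -/
def Spec.pB (S : Spec) (l : ℕ) : List ℕ := S.pTwo.getD l []

/-- All decompositions are right. -/
noncomputable def Spec.ok (S : Spec) : Bool := (List.range 7).all fun l => Nat.beq l S.out ||
  (gdB (S.c l) (S.c l) && (Nat.beq l S.skipOne || letterOk aOne (S.c l) (S.dA l) (S.pA l)) &&
    (Nat.beq l S.skipTwo || letterOk aTwo (S.c l) (S.dB l) (S.pB l)))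

/-- A word is evaluated to the identity in one of the three local groups. -/
noncomputable def Spec.relOk (S : Spec) (w : List ℕ) : Bool :=
  w.all (fun l => Nat.ble (l + 1) 7) &&
  ((w.all (fun l => !(Nat.beq l S.out)) && Nat.beq (w.foldr (fun l x => mm (S.c l) x) oneC) oneC) ||
    (w.all (fun l => !(Nat.beq l S.skipOne)) && wordOk S.pA w) ||
    (w.all (fun l => !(Nat.beq l S.skipTwo)) && wordOk S.pB w))

/-- The codes in the complement on the first side. -/
def Spec.kA (S : Spec) : List ℕ := S.dOne.map fun e => e.2.1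

/-- The codes in the complement on the second side. -/
def Spec.kB (S : Spec) : List ℕ := S.dTwo.map fun e => e.2.1

/-- A letter of the completion in the group. -/
noncomputable def Spec.el {G : Type u} [Group G] (S : Spec) (B : Emb G) (g : G) (l : ℕ) : G :=
  if l = S.out then g else B.lf (S.c l)

/-- The outer involution with its action: `g` lies in complements on both sides, up to the given translation. -/
structure Outer {G : Type u} [Group G] (B : Emb G) (S : Spec) (g : G) where
  KA : Subgroup G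
  KB : Subgroup G
  disjA : ∀ a, a < 64 → lab B aOne a ∈ KA → a = 0
  disjB : ∀ a, a < 64 → lab B aTwo a ∈ KB → a = 0
  memA : ∀ l, l < 7 → B.lf (S.dA l).2.1 ∈ KA
  memB : ∀ l, l < 7 → B.lf (S.dB l).2.1 ∈ KB
  affA : Aff (lab B aOne) KA g fun i => (S.pA S.out).getD i 64
  affB : Aff (lab B aTwo) KB g fun i => (S.pB S.out).getD i 64

theorem xor_aOne : xorOk aOne = true := by decide +kernel

theorem xor_aTwo : xorOk aTwo = true := by decide +kernel

theorem locA {G : Type u} [Group G] (B : Emb G) {K : Subgroup G} (h : ∀ a, a < 64 → lab B aOne a ∈ K → a = 0) :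
    Loc (lab B aOne) K :=
  loc_of_block B block_one.1 xor_aOne B.cent_gA h

theorem locB {G : Type u} [Group G] (B : Emb G) {K : Subgroup G} (h : ∀ a, a < 64 → lab B aTwo a ∈ K → a = 0) :
    Loc (lab B aTwo) K :=
  loc_of_block B block_two.1 xor_aTwo B.cent_gB h

theorem disj_of_inf_bot {G : Type u} [Group G] (B : Emb G) {L : List ℕ} (hL : Block L) (hx : xorOk L = true)
    {K : Subgroup G} (h : K ⊓ B.blockGrp L = ⊥) : ∀ a, a < 64 → lab B L a ∈ K → a = 0 := by
  intro a ha hm
  have hgd : ∀ i, i < 64 → Gd (L.getD i 0) := fun i hi => (hL.sq _ (getD_mem64 hL.len hi)).1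
  have h1 : lab B L a = 1 := by
    have : lab B L a ∈ K ⊓ B.blockGrp L := ⟨hm, (B.mem_blockGrp hL).2 ⟨_, getD_mem64 hL.len ha, rfl⟩⟩
    rwa [h, mem_bot] at this
  have h00 := Nat.eq_of_beq_eq_true (List.all_eq_true.1 (List.all_eq_true.1 hx a (List.mem_range.2 ha)) a
    (List.mem_range.2 ha))
  rw [Nat.xor_self] at h00
  have h0 : L.getD 0 0 = oneC := by rw [← h00, (hL.sq _ (getD_mem64 hL.len ha)).2]
  have e : L.getD a 0 = L.getD 0 0 := by rw [h0]; exact (B.lf_eq_one (hgd a ha)).1 h1
  rw [List.getD_eq_getElem _ _ (hL.len ▸ ha), List.getD_eq_getElem _ _ (hL.len ▸ (by norm_num : 0 < 64))] at e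
  exact (hL.nodup.getElem_inj_iff).1 e

theorem Spec.ok_letter {S : Spec} (h : S.ok = true) {l : ℕ} (hl : l < 7) (hne : l ≠ S.out) :
    Gd (S.c l) ∧ mm (S.c l) (S.c l) = oneC ∧ (l ≠ S.skipOne → letterOk aOne (S.c l) (S.dA l) (S.pA l) = true) ∧
      (l ≠ S.skipTwo → letterOk aTwo (S.c l) (S.dB l) (S.pB l) = true) := by
  have h' := List.all_eq_true.1 h l (List.mem_range.2 hl)
  simp only [Bool.or_eq_true, Bool.and_eq_true, Nat.beq_eq] at h'
  obtain ⟨⟨h1, h2⟩, h3⟩ := h'.resolve_left hne
  refine ⟨gd_of_gdB h1, ?_, fun hh => h2.resolve_left hh, fun hh => h3.resolve_left hh⟩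
  simp only [gdB, Bool.and_eq_true, Nat.beq_eq] at h1
  exact h1.1.2

theorem affA_el {G : Type u} [Group G] {B : Emb G} {S : Spec} {g : G} (h : S.ok = true) (O : Outer B S g) {l : ℕ}
    (hl : l < 7) (hs : l ≠ S.skipOne) : Aff (lab B aOne) O.KA (S.el B g l) fun i => (S.pA l).getD i 64 := by
  rcases eq_or_ne l S.out with rfl | hne
  · rw [Spec.el, if_pos rfl]; exact O.affA
  · rw [Spec.el, if_neg hne]
    exact aff_code B block_one.1 ((S.ok_letter h hl hne).2.2.1 hs) (O.memA l hl)

theorem affB_el {G : Type u} [Group G] {B : Emb G} {S : Spec} {g : G} (h : S.ok = true) (O : Outer B S g) {l : ℕ}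
    (hl : l < 7) (hs : l ≠ S.skipTwo) : Aff (lab B aTwo) O.KB (S.el B g l) fun i => (S.pB l).getD i 64 := by
  rcases eq_or_ne l S.out with rfl | hne
  · rw [Spec.el, if_pos rfl]; exact O.affB
  · rw [Spec.el, if_neg hne]
    exact aff_code B block_two.1 ((S.ok_letter h hl hne).2.2.2 hs) (O.memB l hl)

/-- The relator words hold in the group. -/
theorem rel_eq_one {G : Type u} [Group G] {B : Emb G} {S : Spec} {g : G} (h : S.ok = true) (O : Outer B S g)
    {w : List ℕ} (hw : S.relOk w = true) {e : ℕ → G} (he : ∀ l, l < 7 → e l = S.el B g l) : evalW e w = 1 := by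
  simp only [Spec.relOk, Bool.and_eq_true, Bool.or_eq_true, List.all_eq_true, Bool.not_eq_true', Nat.ble_eq] at hw
  obtain ⟨hlt, hw⟩ := hw
  have hne : ∀ {k l : ℕ}, Nat.beq l k = false → l ≠ k := fun hb => beq_ne.1 hb
  rcases hw with (⟨h1, h2⟩ | ⟨h1, h2⟩) | ⟨h1, h2⟩
  · refine word_one_code B (cs := S.c) (fun l hl => ?_) h2
    have hl' : l < 7 := hlt l hl
    exact ⟨(S.ok_letter h hl' (hne (h1 l hl))).1, by rw [he l hl', Spec.el, if_neg (hne (h1 l hl))]⟩
  · refine (locA B O.disjA).word_eq_one (fun l hl => ?_) h2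
    rw [he l (hlt l hl)]
    exact affA_el h O (hlt l hl) (hne (h1 l hl))
  · refine (locB B O.disjB).word_eq_one (fun l hl => ?_) h2
    rw [he l (hlt l hl)]
    exact affB_el h O (hlt l hl) (hne (h1 l hl))

theorem el_sq {G : Type u} [Group G] {B : Emb G} {S : Spec} {g : G} (h : S.ok = true) (O : Outer B S g)
    (hg : wordOk S.pA [S.out, S.out] = true) (hs : S.out ≠ S.skipOne) {l : ℕ} (hl : l < 7) (ho : S.out < 7) :
    S.el B g l * S.el B g l = 1 := by
  rcases eq_or_ne l S.out with rfl | hne
  · have := (locA B O.disjA).word_eq_one (e := S.el B g) (w := [S.out, S.out]) (fun m hm => by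
      have : m = S.out := by simpa using hm
      subst this
      exact affA_el h O ho hs) hg
    simpa [evalW] using this
  · rw [Spec.el, if_neg hne]
    obtain ⟨h1, h2, -⟩ := S.ok_letter h hl hne
    exact (B.lf_sq_one h1).2 h2

/-- Words for the root elements and for 21 coset representatives of the Sylow group. -/
noncomputable def genOk (S : Spec) (sw rw : List (List ℕ)) : Bool :=
  Nat.beq sw.length 10 && Nat.beq rw.length 21 &&
  (sw ++ rw).all (fun w => w.all fun l => Nat.ble (l + 1) 7 && !(Nat.beq l S.out)) &&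
  (List.range 10).all (fun i => Nat.beq ((sw.getD i []).foldr (fun l x => mm (S.c l) x) oneC) (sGens.getD i 0)) &&
  (List.range 21).all fun i => (List.range 21).all fun j => Nat.beq i j ||
    force (((rw.getD i []).reverse ++ rw.getD j []).foldr (fun l x => mm (S.c l) x) oneC) fun c =>
      !(Nat.beq (sParam (sIdx c)) c)

theorem closure_letters {G : Type u} [Group G] (B : Emb G) {S : Spec} (h : S.ok = true) {sw rw : List (List ℕ)}
    (hgen : genOk S sw rw = true) :
    closure {x | ∃ l, l < 7 ∧ l ≠ S.out ∧ B.lf (S.c l) = x} = centralizer ({B.z} : Set G) := by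
  simp only [genOk, Bool.and_eq_true, Nat.beq_eq, List.all_eq_true, List.mem_range, Bool.or_eq_true,
    Bool.not_eq_true', Nat.ble_eq, Cfsg.Agent.H45.force_eq] at hgen
  obtain ⟨⟨⟨⟨hs, hr⟩, hlt⟩, hsg⟩, hdist⟩ := hgen
  set H := closure {x | ∃ l, l < 7 ∧ l ≠ S.out ∧ B.lf (S.c l) = x} with hH
  have hle : H ≤ centralizer ({B.z} : Set G) := by
    rw [hH, closure_le]
    rintro _ ⟨l, hl, hne, rfl⟩
    exact B.lf_mem (S.ok_letter h hl hne).1
  have hev : ∀ w : List ℕ, (∀ l ∈ w, l < 7 ∧ l ≠ S.out) →
      Gd (w.foldr (fun l x => mm (S.c l) x) oneC) ∧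
      evalW (fun l => B.lf (S.c l)) w = B.lf (w.foldr (fun l x => mm (S.c l) x) oneC) ∧
      evalW (fun l => B.lf (S.c l)) w ∈ H := by
    intro w hw
    obtain ⟨h1, h2⟩ := eval_lf B (cs := S.c) (e := fun l => B.lf (S.c l)) w
      fun l hl => ⟨(S.ok_letter h (hw l hl).1 (hw l hl).2).1, rfl⟩
    refine ⟨h1, h2, Subgroup.list_prod_mem H fun x hx => ?_⟩
    obtain ⟨l, hl, rfl⟩ := List.mem_map.1 hx
    exact subset_closure ⟨l, (hw l hl).1, (hw l hl).2, rfl⟩
  have hmemw : ∀ {L : List (List ℕ)}, L ⊆ sw ++ rw → ∀ i, i < L.length → ∀ l ∈ L.getD i [], l < 7 ∧ l ≠ S.out := by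
    intro L hL i hi l hl
    rw [List.getD_eq_getElem _ _ hi] at hl
    obtain ⟨a, b⟩ := hlt _ (hL (List.getElem_mem hi)) l hl
    exact ⟨a, beq_ne.1 b⟩
  have hsub : B.sg ≤ H := by
    rw [Emb.sg, closure_le]
    rintro _ ⟨s, hs', rfl⟩
    obtain ⟨i, hi, rfl⟩ := List.getElem_of_mem hs'
    have hi10 : i < 10 := hi
    obtain ⟨-, e2, e3⟩ := hev _ (hmemw (L := sw) (List.subset_append_left _ _) i (hs ▸ hi10))
    rw [hsg i hi10, List.getD_eq_getElem _ _ hi] at e2
    exact e2 ▸ e3
  have hcard : 21 * 2 ^ 10 ≤ Nat.card H := by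
    haveI : Finite (centralizer ({B.z} : Set G)) :=
      Nat.finite_of_card_ne_zero (by rw [card_centralizer]; norm_num)
    haveI : Finite H := Finite.of_injective _ (Subgroup.inclusion_injective hle)
    let r : Fin 21 → H := fun i => ⟨evalW (fun l => B.lf (S.c l)) (rw.getD i []),
      (hev _ (hmemw (L := rw) (List.subset_append_right _ _) i (by rw [hr]; exact i.2))).2.2⟩
    have hinj : Function.Injective fun i => (r i : H ⧸ B.sg.subgroupOf H) := by
      intro i j e
      have hm : ((r i)⁻¹ * r j : H) ∈ B.sg.subgroupOf H := QuotientGroup.eq.1 e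
      rw [mem_subgroupOf] at hm
      by_contra hne
      have hj := hmemw (L := rw) (List.subset_append_right _ _) j (by rw [hr]; exact j.2)
      have hi := hmemw (L := rw) (List.subset_append_right _ _) i (by rw [hr]; exact i.2)
      have hmw : ∀ l ∈ (rw.getD i []).reverse ++ rw.getD j [], l < 7 ∧ l ≠ S.out := by
        intro l hl
        rcases List.mem_append.1 hl with hl | hl
        · exact hi l (List.mem_reverse.1 hl)
        · exact hj l hl
      obtain ⟨g1, e1, -⟩ := hev _ hmw
      have hinv : ∀ w : List ℕ, (∀ l ∈ w, l < 7 ∧ l ≠ S.out) →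
          (evalW (fun l => B.lf (S.c l)) w)⁻¹ = evalW (fun l => B.lf (S.c l)) w.reverse := by
        intro w hw
        simp only [evalW, List.map_reverse, List.prod_inv_reverse, List.map_map]
        refine congrArg List.prod (congrArg List.reverse (List.map_congr_left fun l hl => ?_))
        obtain ⟨k1, k2, -⟩ := S.ok_letter h (hw l hl).1 (hw l hl).2
        exact inv_eq_of_mul_eq_one_right ((B.lf_sq_one k1).2 k2)
      have hval : ((↑((r i)⁻¹ * r j) : H) : G) = B.lf
          ((((rw.getD i []).reverse ++ rw.getD j [])).foldr (fun l x => mm (S.c l) x) oneC) := by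
        rw [← e1]
        simp only [r, Subgroup.coe_mul, Subgroup.coe_inv]
        rw [hinv _ hi]
        simp [evalW]
      rw [hval] at hm
      obtain ⟨k, hk, ek⟩ := B.mem_sg hm
      have hck := B.lf_inj (gd_sParam k hk) g1 ek
      have hidx : sIdx (sParam k) = k := by
        have h' := List.all_eq_true.1 s_closed k (List.mem_range.2 hk)
        rw [Bool.and_eq_true] at h'
        exact Nat.eq_of_beq_eq_true h'.1
      rcases hdist i i.2 j j.2 with hd | hd
      · exact hne (Fin.ext hd)
      · refine absurd ?_ (beq_ne.1 hd)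
        rw [← hck, hidx]
    have h21 := Nat.card_le_card_of_injective _ hinj
    rw [Nat.card_fin] at h21
    rw [Subgroup.card_eq_card_quotient_mul_card_subgroup (B.sg.subgroupOf H),
      Nat.card_congr (Subgroup.subgroupOfEquivOfLe hsub).toEquiv, B.card_sg]
    exact Nat.mul_le_mul_right _ h21
  haveI : Finite (centralizer ({B.z} : Set G)) :=
    Nat.finite_of_card_ne_zero (by rw [card_centralizer]; norm_num)
  refine eq_of_le_of_card_ge hle ?_
  rw [card_centralizer]
  omega

end Cfsg.Agent.H95.Held
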