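import Cfsg.Agent.H98.Held.Blocks
import Cfsg.Agent.H45.CosetPres
import Cfsg.Agent.H29.TransvectionCentralizer

/-!
Evaluating words in the normaliser of a self-centralising group of order 64 with a complement, through the action by
affine maps on 64 labels, and transport of homomorphisms between two such normalisers.
-/

set_option autoImplicit false
set_option linter.unusedVariables false

namespace Cfsg.Agent.H95.Held

open Cfsg.Agent.H45 Subgroup

universe u v

/-- A group with labels below 64 (sum is exclusive or) and a subgroup meeting it trivially. -/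
structure Lab {G : Type u} [Group G] (ι : ℕ → G) (K : Subgroup G) : Prop where
  mul : ∀ a, a < 64 → ∀ b, b < 64 → ι a * ι b = ι (a ^^^ b)
  inj : ∀ a, a < 64 → ∀ b, b < 64 → ι a = ι b → a = b
  disj : ∀ a, a < 64 → ι a ∈ K → a = 0

/-- Such a group which is self-centralising. -/
structure Loc {G : Type u} [Group G] (ι : ℕ → G) (K : Subgroup G) : Prop extends Lab ι K where
  cent : ∀ x, (∀ a, a < 64 → x * ι a = ι a * x) → ∃ a, a < 64 ∧ ι a = x

/-- The element acts on the labels by the affine map `p`: translation by some label after conjugation by a member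
of the subgroup. -/
def Aff {G : Type u} [Group G] (ι : ℕ → G) (K : Subgroup G) (x : G) (p : ℕ → ℕ) : Prop :=
  ∃ a, a < 64 ∧ ∃ k ∈ K, x = ι a * k ∧ (∀ i, i < 64 → p i < 64) ∧ ∀ i, i < 64 → k * ι i * k⁻¹ = ι (a ^^^ p i)

theorem xor_lt64 {a b : ℕ} (ha : a < 64) (hb : b < 64) : a ^^^ b < 64 :=
  Nat.xor_lt_two_pow (n := 6) ha hb

theorem xor_cancel_left' (a b : ℕ) : a ^^^ (a ^^^ b) = b := by
  rw [← Nat.xor_assoc, Nat.xor_self, Nat.zero_xor]

namespace Lab

variable {G : Type u} [Group G] {ι : ℕ → G} {K : Subgroup G} (h : Lab ι K)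
include h

theorem zero : ι 0 = 1 := by
  have e := h.mul 0 (by norm_num) 0 (by norm_num)
  rw [Nat.xor_self] at e
  exact mul_eq_left.1 e

theorem sq {a : ℕ} (ha : a < 64) : ι a * ι a = 1 := by
  rw [h.mul a ha a ha, Nat.xor_self, h.zero]

theorem inv {a : ℕ} (ha : a < 64) : (ι a)⁻¹ = ι a :=
  inv_eq_of_mul_eq_one_right (h.sq ha)

theorem aff_one : Aff ι K 1 fun i => i := by
  refine ⟨0, by norm_num, 1, K.one_mem, by rw [h.zero, one_mul], fun i hi => hi, fun i hi => ?_⟩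
  rw [Nat.zero_xor, one_mul, inv_one, mul_one]

theorem aff_mul {x y : G} {p q : ℕ → ℕ} (hx : Aff ι K x p) (hy : Aff ι K y q) :
    Aff ι K (x * y) fun i => p (q i) := by
  obtain ⟨a, ha, k, hk, rfl, hp, hpk⟩ := hx
  obtain ⟨b, hb, k', hk', rfl, hq, hqk⟩ := hy
  refine ⟨p b, hp b hb, k * k', K.mul_mem hk hk', ?_, fun i hi => hp _ (hq i hi), fun i hi => ?_⟩
  · calc ι a * k * (ι b * k') = ι a * (k * ι b * k⁻¹) * (k * k') := by group
      _ = ι (p b) * (k * k') := by rw [hpk b hb, h.mul a ha _ (xor_lt64 ha (hp b hb)), xor_cancel_left']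
  · calc k * k' * ι i * (k * k')⁻¹ = k * (k' * ι i * k'⁻¹) * k⁻¹ := by group
      _ = (k * ι b * k⁻¹) * (k * ι (q i) * k⁻¹) := by
        rw [hqk i hi, ← h.mul b hb _ (hq i hi)]; group
      _ = ι (p b ^^^ p (q i)) := by
        rw [hpk b hb, hpk _ (hq i hi), h.mul _ (xor_lt64 ha (hp b hb)) _ (xor_lt64 ha (hp _ (hq i hi)))]
        congr 1
        rw [Nat.xor_comm a (p b), Nat.xor_assoc, xor_cancel_left']

theorem aff_eq_id {p : ℕ → ℕ} (hx : Aff ι K 1 p) : ∀ i, i < 64 → p i = i := by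
  obtain ⟨a, ha, k, hk, e, hp, hpk⟩ := hx
  have hka : k = ι a := by rw [← h.inv ha]; exact eq_inv_of_mul_eq_one_right e.symm
  have ha0 : a = 0 := h.disj a ha (hka ▸ hk)
  intro i hi
  have e2 := hpk i hi
  rw [hka, ha0, h.zero, one_mul, inv_one, mul_one, Nat.zero_xor] at e2
  exact h.inj _ (hp i hi) _ hi e2.symm

theorem inj_perm {x : G} {p : ℕ → ℕ} (hx : Aff ι K x p) {i j : ℕ} (hi : i < 64) (hj : j < 64) (e : p i = p j) :
    i = j := by
  obtain ⟨a, ha, k, hk, rfl, hp, hpk⟩ := hx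
  refine h.inj i hi j hj ?_
  have e2 : k * ι i * k⁻¹ = k * ι j * k⁻¹ := by rw [hpk i hi, hpk j hj, e]
  exact mul_left_cancel (mul_right_cancel e2)

theorem aff_inv {x : G} {p q : ℕ → ℕ} (hx : Aff ι K x p) (hq : ∀ i, i < 64 → q i < 64)
    (hpq : ∀ i, i < 64 → p (q i) = i) : Aff ι K x⁻¹ q := by
  obtain ⟨a, ha, k, hk, rfl, hp, hpk⟩ := hx
  have h0 : (0 : ℕ) < 64 := by norm_num
  have e0 : k⁻¹ * ι a * k = ι (q 0) := by
    have e := hpk (q 0) (hq 0 h0)
    rw [hpq 0 h0, Nat.xor_zero] at e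
    rw [← e]; group
  refine ⟨q 0, hq 0 h0, k⁻¹, K.inv_mem hk, ?_, hq, fun i hi => ?_⟩
  · rw [← e0, mul_inv_rev, h.inv ha]; group
  · have e := hpk (q i) (hq i hi)
    rw [hpq i hi, ← h.mul a ha i hi] at e
    calc k⁻¹ * ι i * k⁻¹⁻¹ = (k⁻¹ * ι a * k) * (k⁻¹ * (ι a * ι i) * k) := by
          rw [show (k⁻¹ * ι a * k) * (k⁻¹ * (ι a * ι i) * k) = k⁻¹ * (ι a * ι a) * ι i * k by group, h.sq ha]
          group
      _ = ι (q 0 ^^^ q i) := by
        rw [e0, ← e, ← h.mul _ (hq 0 h0) _ (hq i hi)]; group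

end Lab

namespace Loc

variable {G : Type u} [Group G] {ι : ℕ → G} {K : Subgroup G} (h : Loc ι K)
include h

theorem eq_one_of_aff {x : G} {p : ℕ → ℕ} (hx : Aff ι K x p) (he : ∀ i, i < 64 → p i = i) : x = 1 := by
  obtain ⟨a, ha, k, hk, rfl, hp, hpk⟩ := hx
  have ha0 : a = 0 := by
    have e := hpk 0 (by norm_num)
    rw [h.zero, mul_one, mul_inv_cancel, he 0 (by norm_num), Nat.xor_zero] at e
    exact (h.inj 0 (by norm_num) a ha (h.zero.trans e)).symm
  subst ha0
  obtain ⟨c, hc, hck⟩ := h.cent k fun i hi => by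
    have e := hpk i hi
    rw [he i hi, Nat.zero_xor] at e
    exact mul_inv_eq_iff_eq_mul.1 e
  have : c = 0 := h.disj c hc (hck ▸ hk)
  rw [← hck, this, h.zero, mul_one]

end Loc

/-- The affine map of a word, from tables of the letters. -/
def permW (P : ℕ → List ℕ) (w : List ℕ) (i : ℕ) : ℕ := w.foldr (fun l x => (P l).getD x 64) i

/-- Boolean test that a word gives the identity map. -/
def wordOk (P : ℕ → List ℕ) (w : List ℕ) : Bool := (List.range 64).all fun i => Nat.beq (permW P w i) i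

theorem Lab.aff_word {G : Type u} [Group G] {ι : ℕ → G} {K : Subgroup G} (h : Lab ι K) {e : ℕ → G}
    {P : ℕ → List ℕ} : ∀ {w : List ℕ}, (∀ l ∈ w, Aff ι K (e l) fun i => (P l).getD i 64) →
      Aff ι K (evalW e w) (permW P w)
  | [], _ => h.aff_one
  | l :: w, hw => by
    have := h.aff_mul (hw l List.mem_cons_self)
      (Lab.aff_word h (w := w) fun m hm => hw m (List.mem_cons_of_mem _ hm))
    exact this

theorem Loc.word_eq_one {G : Type u} [Group G] {ι : ℕ → G} {K : Subgroup G} (h : Loc ι K) {e : ℕ → G}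
    {P : ℕ → List ℕ} {w : List ℕ} (hw : ∀ l ∈ w, Aff ι K (e l) fun i => (P l).getD i 64)
    (hok : wordOk P w = true) : evalW e w = 1 :=
  h.eq_one_of_aff (h.aff_word hw) fun i hi =>
    Nat.eq_of_beq_eq_true (List.all_eq_true.1 hok i (List.mem_range.2 hi))

/-- Letters with the same tables in two such normalisers give a homomorphism between the groups they generate. -/
theorem Lab.exists_hom {S : Type v} [Group S] {G : Type u} [Group G] {ιS : ℕ → S} {KS : Subgroup S}
    (hS : Lab ιS KS) {ιG : ℕ → G} {KG : Subgroup G} (hG : Loc ιG KG) (sub : List ℕ) (b : ℕ → S) (a : ℕ → G)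
    (P : ℕ → List ℕ) (hb : ∀ l ∈ sub, Aff ιS KS (b l) fun i => (P l).getD i 64)
    (ha : ∀ l ∈ sub, Aff ιG KG (a l) fun i => (P l).getD i 64) :
    ∃ f : ↥(closure {s | ∃ l ∈ sub, b l = s}) →* G,
      ∀ l (hl : l ∈ sub), f ⟨b l, subset_closure ⟨l, hl, rfl⟩⟩ = a l := by
  classical
  let R : Subgroup (S × G) := closure {r | ∃ l ∈ sub, (b l, a l) = r}
  have hR : ∀ r ∈ R, ∃ p, Aff ιS KS r.1 p ∧ Aff ιG KG r.2 p := by
    intro r hr
    refine closure_induction (p := fun r _ => ∃ p, Aff ιS KS r.1 p ∧ Aff ιG KG r.2 p) ?_ ?_ ?_ ?_ hr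
    · rintro _ ⟨l, hl, rfl⟩
      exact ⟨_, hb l hl, ha l hl⟩
    · exact ⟨_, hS.aff_one, hG.aff_one⟩
    · rintro x y - - ⟨p, hp1, hp2⟩ ⟨q, hq1, hq2⟩
      exact ⟨_, hS.aff_mul hp1 hq1, hG.aff_mul hp2 hq2⟩
    · rintro x - ⟨p, hp1, hp2⟩
      obtain ⟨-, -, -, -, -, hlt, -⟩ := id hp1
      let F : Fin 64 → Fin 64 := fun i => ⟨p i, hlt i i.2⟩
      have hF : Function.Bijective F := Finite.injective_iff_bijective.1 fun i j e =>
        Fin.ext (hS.inj_perm hp1 i.2 j.2 (congrArg Fin.val e))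
      let E := Equiv.ofBijective F hF
      let q : ℕ → ℕ := fun i => if hi : i < 64 then (E.symm ⟨i, hi⟩).1 else 0
      have hq : ∀ i, i < 64 → q i < 64 := fun i hi => by simp only [q, dif_pos hi]; exact (E.symm ⟨i, hi⟩).2
      have hpq : ∀ i, i < 64 → p (q i) = i := fun i hi => by
        simp only [q, dif_pos hi]
        exact congrArg Fin.val (E.apply_symm_apply ⟨i, hi⟩)
      exact ⟨q, hS.aff_inv hp1 hq hpq, hG.aff_inv hp2 hq hpq⟩
  let φ : ↥R →* S := (MonoidHom.fst S G).comp R.subtype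
  have hφ : Function.Injective φ := by
    rw [injective_iff_map_eq_one]
    rintro ⟨⟨s, g⟩, hr⟩ hs
    obtain ⟨p, hp1, hp2⟩ := hR _ hr
    have hs' : s = 1 := hs
    subst hs'
    have hg : g = 1 := hG.eq_one_of_aff hp2 (hS.aff_eq_id hp1)
    subst hg
    rfl
  have hrange : closure {s | ∃ l ∈ sub, b l = s} ≤ φ.range := by
    rw [closure_le]
    rintro _ ⟨l, hl, rfl⟩
    exact ⟨⟨(b l, a l), subset_closure ⟨l, hl, rfl⟩⟩, rfl⟩
  refine ⟨(((MonoidHom.snd S G).comp R.subtype).comp (MonoidHom.ofInjective hφ).symm.toMonoidHom).comp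
    (Subgroup.inclusion hrange), fun l hl => ?_⟩
  have e : (MonoidHom.ofInjective hφ).symm ⟨b l, hrange (subset_closure ⟨l, hl, rfl⟩)⟩ =
      ⟨(b l, a l), subset_closure ⟨l, hl, rfl⟩⟩ := by
    rw [MulEquiv.symm_apply_eq]
    rfl
  simp only [MonoidHom.comp_apply, MulEquiv.coe_toMonoidHom]
  show (((MonoidHom.ofInjective hφ).symm ⟨b l, hrange (subset_closure ⟨l, hl, rfl⟩)⟩ : ↥R) : S × G).2 = a l
  rw [e]

/-! The two blocks inside a group with the involution centraliser. -/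

open Cfsg.Agent.H98.Held

/-- The labelled members of a block. -/
noncomputable def lab {G : Type u} [Group G] (B : Emb G) (L : List ℕ) (i : ℕ) : G := B.lf (L.getD i 0)

theorem getD_mem64 {L : List ℕ} (hL : L.length = 64) {i : ℕ} (hi : i < 64) : L.getD i 0 ∈ L := by
  rw [List.getD_eq_getElem _ _ (hL ▸ hi)]
  exact List.getElem_mem _

/-- The sum of labels agrees with the product of codes. -/
noncomputable def xorOk (L : List ℕ) : Bool :=
  (List.range 64).all fun a => (List.range 64).all fun b => Nat.beq (mm (L.getD a 0) (L.getD b 0)) (L.getD (a ^^^ b) 0)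

theorem loc_of_block {G : Type u} [Group G] (B : Emb G) {L : List ℕ} (hL : Block L) (hx : xorOk L = true)
    (hcent : centralizer (B.blockGrp L : Set G) = B.blockGrp L) {K : Subgroup G}
    (hK : ∀ a, a < 64 → lab B L a ∈ K → a = 0) : Loc (lab B L) K := by
  have hgd : ∀ i, i < 64 → Gd (L.getD i 0) := fun i hi => (hL.sq _ (getD_mem64 hL.len hi)).1
  refine ⟨⟨fun a ha b hb => ?_, fun a ha b hb e => ?_, hK⟩, fun x hc => ?_⟩
  · rw [lab, lab, ← B.lf_mul (hgd a ha) (hgd b hb), Nat.eq_of_beq_eq_true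
      (List.all_eq_true.1 (List.all_eq_true.1 hx a (List.mem_range.2 ha)) b (List.mem_range.2 hb))]
    rfl
  · have e' := B.lf_inj (hgd a ha) (hgd b hb) e
    rw [List.getD_eq_getElem _ _ (hL.len ▸ ha), List.getD_eq_getElem _ _ (hL.len ▸ hb)] at e'
    exact (hL.nodup.getElem_inj_iff).1 e'
  · have hx' : x ∈ centralizer (B.blockGrp L : Set G) := by
      refine mem_centralizer_iff.2 fun y hy => ?_
      obtain ⟨c, hc', rfl⟩ := (B.mem_blockGrp hL).1 hy
      obtain ⟨i, hi, rfl⟩ := List.getElem_of_mem hc'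
      have := hc i (hL.len ▸ hi)
      rw [lab, List.getD_eq_getElem _ _ hi] at this
      exact this.symm
    rw [hcent] at hx'
    obtain ⟨c, hc', rfl⟩ := (B.mem_blockGrp hL).1 hx'
    obtain ⟨i, hi, rfl⟩ := List.getElem_of_mem hc'
    exact ⟨i, hL.len ▸ hi, by rw [lab, List.getD_eq_getElem _ _ hi]⟩

/-- Checks the decomposition of a code of the centraliser as a label times a code in the complement, and its
table. -/
noncomputable def letterOk (L : List ℕ) (c : ℕ) (e : ℕ × ℕ × ℕ) (p : List ℕ) : Bool :=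
  Nat.ble (e.1 + 1) 64 && gdB e.2.1 e.2.2 && gdB e.2.2 e.2.1 && Nat.beq (mm (L.getD e.1 0) e.2.1) c &&
    (List.range 64).all fun i => Nat.ble (p.getD i 64 + 1) 64 &&
      Nat.beq (cjC e.2.1 e.2.2 (L.getD i 0)) (L.getD (e.1 ^^^ p.getD i 64) 0)

theorem aff_code {G : Type u} [Group G] (B : Emb G) {L : List ℕ} (hL : Block L) {K : Subgroup G} {c : ℕ}
    {e : ℕ × ℕ × ℕ} {p : List ℕ} (hok : letterOk L c e p = true) (hk : B.lf e.2.1 ∈ K) :
    Aff (lab B L) K (B.lf c) fun i => p.getD i 64 := by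
  simp only [letterOk, Bool.and_eq_true, Nat.ble_eq, Nat.beq_eq, List.all_eq_true, List.mem_range] at hok
  obtain ⟨⟨⟨⟨ha, h1⟩, h2⟩, hc⟩, hall⟩ := hok
  have hgd : ∀ i, i < 64 → Gd (L.getD i 0) := fun i hi => (hL.sq _ (getD_mem64 hL.len hi)).1
  have hk0 : Gd e.2.1 := gd_of_gdB h1
  have hinv : mm e.2.1 e.2.2 = oneC := by
    simp only [gdB, Bool.and_eq_true, Nat.beq_eq] at h1
    exact h1.1.2
  refine ⟨e.1, by omega, B.lf e.2.1, hk, ?_, fun i hi => Nat.lt_of_succ_le (hall i hi).1, fun i hi => ?_⟩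
  · rw [← hc, B.lf_mul (hgd _ (by omega)) hk0]; rfl
  · rw [lab, lab, ← B.lf_cj hk0 (gd_of_gdB h2) hinv (hgd i hi), (hall i hi).2]

theorem aff_outer {G : Type u} [Group G] {ι : ℕ → G} {K : Subgroup G} (h : Lab ι K) {g : G} {p : List ℕ}
    (hp : (List.range 64).all (fun i => Nat.ble (p.getD i 64 + 1) 64) = true) (hg : g ∈ K)
    (hact : ∀ i, i < 64 → g * ι i * g⁻¹ = ι (p.getD i 64)) : Aff ι K g fun i => p.getD i 64 := by
  refine ⟨0, by norm_num, g, hg, by rw [h.zero, one_mul], fun i hi => ?_, fun i hi => ?_⟩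
  · exact Nat.lt_of_succ_le (Nat.le_of_ble_eq_true (List.all_eq_true.1 hp i (List.mem_range.2 hi)))
  · rw [Nat.zero_xor]; exact hact i hi

theorem eval_fold {G : Type u} [Group G] {A : Type v} {op : A → A → A} {o : A} {good : A → Prop} {φ : A → G}
    (hgo : good o) (hgm : ∀ x y, good x → good y → good (op x y)) (h1 : φ o = 1)
    (hm : ∀ x y, good x → good y → φ (op x y) = φ x * φ y) {cs : ℕ → A} {e : ℕ → G} (w : List ℕ)
    (hw : ∀ l ∈ w, good (cs l) ∧ e l = φ (cs l)) :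
    good (w.foldr (fun l x => op (cs l) x) o) ∧ evalW e w = φ (w.foldr (fun l x => op (cs l) x) o) := by
  induction w with
  | nil => exact ⟨hgo, h1.symm⟩
  | cons l w ih =>
    obtain ⟨hg, he⟩ := ih fun m hm => hw m (List.mem_cons_of_mem _ hm)
    obtain ⟨hl1, hl2⟩ := hw l List.mem_cons_self
    refine ⟨hgm _ _ hl1 hg, ?_⟩
    rw [List.foldr_cons, hm _ _ hl1 hg, ← hl2, ← he]
    rfl

theorem eval_lf {G : Type u} [Group G] (B : Emb G) {cs : ℕ → ℕ} {e : ℕ → G} (w : List ℕ)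
    (hw : ∀ l ∈ w, Gd (cs l) ∧ e l = B.lf (cs l)) :
    Gd (w.foldr (fun l x => mm (cs l) x) oneC) ∧ evalW e w = B.lf (w.foldr (fun l x => mm (cs l) x) oneC) :=
  eval_fold (op := mm) (good := Gd) (φ := B.lf) gd_one (fun _ _ => Gd.mul) B.lf_one
    (fun _ _ hx hy => B.lf_mul hx hy) w hw

theorem word_one_code {G : Type u} [Group G] (B : Emb G) {cs : ℕ → ℕ} {e : ℕ → G} {w : List ℕ}
    (hw : ∀ l ∈ w, Gd (cs l) ∧ e l = B.lf (cs l)) (h : Nat.beq (w.foldr (fun l x => mm (cs l) x) oneC) oneC = true) :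
    evalW e w = 1 := by
  rw [(eval_lf B w hw).2, Nat.eq_of_beq_eq_true h, B.lf_one]

theorem card_centralizer {G : Type u} [Group G] (B : Emb G) :
    Nat.card (centralizer ({B.z} : Set G)) = 21504 := by
  rw [← B.range, ← Nat.card_congr (MonoidHom.ofInjective B.inj).toEquiv]
  exact H29.card_centralizer_transvection sT rfl

end Cfsg.Agent.H95.Held
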