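import Cfsg.Agent.H95.Held.Eval
import Cfsg.Agent.H95.Held.LocalData
import Cfsg.Agent.H95.Held.Cert
import Cfsg.Agent.H83.Held.Data
import Cfsg.Agent.H25.Held.HeData0
import Cfsg.Agent.H25.Held.HeData1
import Cfsg.Agent.H25.Held.HeData2
import Cfsg.Agent.H25.Held.HeData3

/-!
The three completion cases: the letters decompose as tabulated and every relator holds in a local group.
-/

set_option autoImplicit false
set_option maxRecDepth 100000

namespace Cfsg.Agent.H95.Held

open Cfsg.Agent.H98.Held

namespace L52

/-- The data of the linear case. -/
def spec : Spec := ⟨cs, 6, 5, 4, dOne, dTwo, pOne, pTwo⟩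

theorem spec_ok : spec.ok = true := by decide +kernel

theorem spec_rels : rels.all spec.relOk = true := by decide +kernel

theorem spec_gen : genOk spec sWords rWords = true := by decide +kernel

theorem spec_sq : wordOk spec.pA [6, 6] = true := by decide +kernel

end L52

namespace M24

/-- The data of the Mathieu case. -/
def spec : Spec := ⟨cs, 6, 5, 4, dOne, dTwo, pOne, pTwo⟩

theorem spec_ok : spec.ok = true := by decide +kernel

theorem spec_rels : Cfsg.Agent.H83.Held.M24.rels.all spec.relOk = true := by decide +kernel

theorem spec_gen : genOk spec sWords rWords = true := by decide +kernel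

theorem spec_sq : wordOk spec.pA [6, 6] = true := by decide +kernel

end M24

namespace He

/-- The data of the Held case. -/
def spec : Spec := ⟨cs, 5, 6, 4, dOne, dTwo, pOne, pTwo⟩

theorem spec_ok : spec.ok = true := by decide +kernel

theorem spec_relsZero : H25.Held.He0.rels.all spec.relOk = true := by decide +kernel

theorem spec_relsOne : H25.Held.He1.rels.all spec.relOk = true := by decide +kernel

theorem spec_relsTwo : H25.Held.He2.rels.all spec.relOk = true := by decide +kernel

theorem spec_relsThree : H25.Held.He3.rels.all spec.relOk = true := by decide +kernel

theorem spec_gen : genOk spec sWords rWords = true := by decide +kernel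

theorem spec_sq : wordOk spec.pA [5, 5] = true := by decide +kernel

end He

end Cfsg.Agent.H95.Held
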